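import Mathlib.Algebra.Category.Ring.FilteredColimits
import Mathlib.AlgebraicGeometry.Morphisms.Finite
import Mathlib.AlgebraicGeometry.Morphisms.QuasiFinite
import Mathlib.AlgebraicGeometry.GammaSpecAdjunction
import Mathlib.RingTheory.IntegralClosure.IntegrallyClosed
import Mathlib.RingTheory.Localization.Away.Basic
import Mathlib.CategoryTheory.Limits.Types.Filtered

/-! # An algebraic field extension of the image of a ring as a limit of quasi-finite stages -/

universe u

open CategoryTheory CategoryTheory.Limits AlgebraicGeometry Opposite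

set_option autoImplicit false
set_option backward.isDefEq.respectTransparency.types false
set_option linter.style.haveILetI false
set_option linter.unusedSectionVars false

noncomputable section

namespace Groth.L27.LocCrit

variable (R K : Type u) [CommRing R] [Field K] [Algebra R K]

/-- The subalgebra of elements with a bounded power of `a` as denominator. -/
def away (A : Subalgebra R K) (a : K) (ha : a ∈ A) : Subalgebra R K where
  carrier := {z | ∃ n : ℕ, z * a ^ n ∈ A}
  mul_mem' {x y} := fun ⟨m, hm⟩ ⟨n, hn⟩ => ⟨m + n, by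
    rw [show x * y * a ^ (m + n) = (x * a ^ m) * (y * a ^ n) by ring]
    exact mul_mem hm hn⟩
  one_mem' := ⟨0, by simp [one_mem]⟩
  add_mem' {x y} := fun ⟨m, hm⟩ ⟨n, hn⟩ => ⟨m + n, by
    rw [show (x + y) * a ^ (m + n) = (x * a ^ m) * a ^ n + (y * a ^ n) * a ^ m by ring]
    exact add_mem (mul_mem hm (pow_mem ha n)) (mul_mem hn (pow_mem ha m))⟩
  zero_mem' := ⟨0, by simp [zero_mem]⟩
  algebraMap_mem' r := ⟨0, by simp [A.algebraMap_mem r]⟩

theorem mem_away {A : Subalgebra R K} {a : K} {ha : a ∈ A} {z : K} :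
    z ∈ away R K A a ha ↔ ∃ n : ℕ, z * a ^ n ∈ A := Iff.rfl

theorem le_away (A : Subalgebra R K) (a : K) (ha : a ∈ A) : A ≤ away R K A a ha :=
  fun z hz => ⟨0, by simpa using hz⟩

/-- Finite subalgebras with a localization at a nonzero element. -/
def Stg : Type u := {p : Subalgebra R K × Subalgebra R K //
  p.1.FG ∧ p.1 ≤ integralClosure R K ∧ ∃ (a : K) (ha : a ∈ p.1), a ≠ 0 ∧ p.2 = away R K p.1 a ha}

instance : PartialOrder (Stg R K) := inferInstanceAs (PartialOrder (Subtype _))

instance : Nonempty (Stg R K) :=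
  ⟨⟨(⊥, away R K ⊥ 1 (one_mem _)), Subalgebra.fg_bot, bot_le, 1, one_mem _, one_ne_zero, rfl⟩⟩

instance : IsDirected (Stg R K) (· ≤ ·) :=
  ⟨fun S T => by
    obtain ⟨⟨A, B⟩, hA, hAC, a, ha, ha0, hB⟩ := S
    obtain ⟨⟨A', B'⟩, hA', hAC', a', ha', ha0', hB'⟩ := T
    dsimp only at hA hAC ha hB hA' hAC' ha' hB'
    subst hB hB'
    have hm : a * a' ∈ A ⊔ A' := mul_mem (le_sup_left (a := A) ha) (le_sup_right (b := A') ha')
    refine ⟨⟨(A ⊔ A', away R K (A ⊔ A') (a * a') hm), hA.sup hA', sup_le hAC hAC', a * a', hm,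
      mul_ne_zero ha0 ha0', rfl⟩, ⟨le_sup_left, ?_⟩, ⟨le_sup_right, ?_⟩⟩
    · rintro z ⟨n, hn⟩
      refine ⟨n, ?_⟩
      rw [mul_pow, ← mul_assoc]
      exact mul_mem (le_sup_left (a := A) hn) (pow_mem (le_sup_right (b := A') ha') n)
    · rintro z ⟨n, hn⟩
      refine ⟨n, ?_⟩
      rw [mul_pow, mul_comm (a ^ n), ← mul_assoc]
      exact mul_mem (le_sup_right (b := A') hn) (pow_mem (le_sup_left (a := A) ha) n)⟩

/-- The finite subalgebras. -/
def dA : Stg R K ⥤ CommRingCat.{u} where
  obj S := CommRingCat.of S.1.1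
  map {S T} h := CommRingCat.ofHom (Subalgebra.inclusion (show S.1.1 ≤ T.1.1 from h.le.1)).toRingHom
  map_id _ := rfl
  map_comp _ _ := rfl

/-- Their localizations. -/
def dB : Stg R K ⥤ CommRingCat.{u} where
  obj S := CommRingCat.of S.1.2
  map {S T} h := CommRingCat.ofHom (Subalgebra.inclusion (show S.1.2 ≤ T.1.2 from h.le.2)).toRingHom
  map_id _ := rfl
  map_comp _ _ := rfl

theorem stg_le (S : Stg R K) : S.1.1 ≤ S.1.2 := by
  obtain ⟨⟨A, B⟩, hA, hAC, a, ha, ha0, hB⟩ := S
  dsimp only at hA hAC ha hB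
  subst hB
  exact le_away R K A a ha

/-- The localization maps. -/
def dγ : dA R K ⟶ dB R K where
  app S := CommRingCat.ofHom (Subalgebra.inclusion (stg_le R K S)).toRingHom
  naturality _ _ _ := rfl

/-- The integral closure as a cocone. -/
def coA : Cocone (dA R K) where
  pt := CommRingCat.of (integralClosure R K)
  ι :=
    { app := fun S => CommRingCat.ofHom (Subalgebra.inclusion S.2.2.1).toRingHom
      naturality := fun _ _ _ => rfl }

/-- The field as a cocone. -/
def coB : Cocone (dB R K) where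
  pt := CommRingCat.of K
  ι :=
    { app := fun S => CommRingCat.ofHom S.1.2.val.toRingHom
      naturality := fun _ _ _ => rfl }

/-- The integral closure is the union of the finite subalgebras. -/
def isColimitCoA : IsColimit (coA R K) := by
  haveI : PreservesColimitsOfShape (Stg R K) (forget CommRingCat.{u}) := inferInstance
  haveI : HasColimitsOfShape (Stg R K) CommRingCat.{u} := inferInstance
  haveI : ReflectsColimitsOfShape (Stg R K) (forget CommRingCat.{u}) :=
    reflectsColimitsOfShape_of_reflectsIsomorphisms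
  refine isColimitOfReflects (forget CommRingCat.{u}) ?_
  refine Types.FilteredColimit.isColimitOf' _ _ (fun x => ?_) (fun S x y h => ?_)
  · let x' : integralClosure R K := x
    let A := Algebra.adjoin R {(x' : K)}
    refine ⟨⟨(A, away R K A 1 (one_mem _)), by simpa using Subalgebra.fg_adjoin_finset (R := R) {(x' : K)},
      Algebra.adjoin_le (Set.singleton_subset_iff.2 x'.2), 1, one_mem _, one_ne_zero, rfl⟩,
      ⟨(x' : K), Algebra.subset_adjoin (Set.mem_singleton _)⟩, rfl⟩
  · exact ⟨S, 𝟙 S, by rw [show x = y from Subtype.ext (congrArg Subtype.val h :)]⟩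

/-- Every element has an integral multiple. -/
def HasMul : Prop := ∀ z : K, ∃ a : R, algebraMap R K a ≠ 0 ∧ IsIntegral R (algebraMap R K a * z)

/-- The field is the union of the localizations. -/
def isColimitCoB (hK : HasMul R K) : IsColimit (coB R K) := by
  haveI : PreservesColimitsOfShape (Stg R K) (forget CommRingCat.{u}) := inferInstance
  haveI : HasColimitsOfShape (Stg R K) CommRingCat.{u} := inferInstance
  haveI : ReflectsColimitsOfShape (Stg R K) (forget CommRingCat.{u}) :=
    reflectsColimitsOfShape_of_reflectsIsomorphisms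
  refine isColimitOfReflects (forget CommRingCat.{u}) ?_
  refine Types.FilteredColimit.isColimitOf' _ _ (fun x => ?_) (fun S x y h => ?_)
  · let x' : K := x
    let hx := hK x'
    let a := algebraMap R K hx.choose
    let A := Algebra.adjoin R {a * x'}
    refine ⟨⟨(A, away R K A a (A.algebraMap_mem _)), by simpa using Subalgebra.fg_adjoin_finset (R := R) {a * x'},
      Algebra.adjoin_le (Set.singleton_subset_iff.2 hx.choose_spec.2), a, A.algebraMap_mem _, hx.choose_spec.1, rfl⟩,
      ⟨x', 1, ?_⟩, rfl⟩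
    rw [pow_one, mul_comm]
    exact Algebra.subset_adjoin (Set.mem_singleton _)
  · exact ⟨S, 𝟙 S, by rw [show x = y from Subtype.ext h]⟩

theorem finite_stg (S : Stg R K) : Module.Finite R S.1.1 := by
  haveI : Algebra.FiniteType R S.1.1 := (Subalgebra.fg_iff_finiteType _).1 S.2.1
  haveI : Algebra.IsIntegral R S.1.1 := ⟨fun x => by
    have h : IsIntegral R (S.1.1.val x) := S.2.2.1 x.2
    exact (isIntegral_algHom_iff S.1.1.val Subtype.val_injective).1 h⟩
  exact Algebra.IsIntegral.finite

theorem isOpenImmersion_stg (S : Stg R K) : IsOpenImmersion (Spec.map ((dγ R K).app S)) := by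
  obtain ⟨⟨A, B⟩, hA, hAC, a, ha, ha0, hB⟩ := S
  dsimp only at hA hAC ha hB
  subst hB
  let B := away R K A a ha
  letI : Algebra A B := (Subalgebra.inclusion (le_away R K A a ha)).toRingHom.toAlgebra
  haveI : IsLocalization.Away (⟨a, ha⟩ : A) B := by
    have hu : IsUnit (algebraMap A B ⟨a, ha⟩) := by
      refine IsUnit.of_mul_eq_one ⟨a⁻¹, 1, by rw [pow_one, inv_mul_cancel₀ ha0]; exact one_mem _⟩ ?_
      exact Subtype.ext (mul_inv_cancel₀ ha0)
    refine IsLocalization.Away.mk _ hu (fun z => ?_) (fun x y h => ?_)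
    · obtain ⟨n, hn⟩ := z.2
      exact ⟨n, ⟨_, hn⟩, Subtype.ext rfl⟩
    · exact ⟨0, by rw [pow_zero, one_mul, one_mul]; exact Subtype.ext (congrArg Subtype.val h :)⟩
  exact IsOpenImmersion.of_isLocalization (R := A) (S := B) ⟨a, ha⟩

end Groth.L27.LocCrit
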