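import Groth.Agent.L27.LimBC.StrictLocal
import Groth.Agent.L19.Limit.OverBase
import Groth.Agent.L28.AcyComp.Basic

/-! # Base change along limits of schemes over a base -/

universe u

open CategoryTheory CategoryTheory.Limits AlgebraicGeometry Opposite

set_option autoImplicit false
set_option backward.isDefEq.respectTransparency.types false
set_option backward.isDefEq.respectTransparency false
set_option backward.defeqAttrib.useBackward true
set_option linter.style.haveILetI false
set_option linter.unusedSectionVars false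

noncomputable section

namespace Groth.L27.LocCrit

open Groth.L27.LimCoh Groth.L27.LimBC

variable {I : Type u} [SmallCategory I] [IsCofiltered I] {Ds Dt : I ⥤ Scheme.{u}} (γ : Dt ⟶ Ds)
  [∀ {i j : I} (f : i ⟶ j), IsAffineHom (Ds.map f)] [∀ {i j : I} (f : i ⟶ j), IsAffineHom (Dt.map f)]
  [∀ i, QuasiCompact (γ.app i)] [∀ i, QuasiSeparated (γ.app i)]
  {X Y : Scheme.{u}} (g : X ⟶ Y) (t : ∀ i, Ds.obj i ⟶ Y) (ht : ∀ {i j : I} (φ : i ⟶ j), Ds.map φ ≫ t j = t i)
  {cS : Cone Ds} {cT : Cone Dt} (γ' : cT.pt ⟶ cS.pt) (hγ : ∀ i, γ' ≫ cS.π.app i = cT.π.app i ≫ γ.app i)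
  (T : cS.pt ⟶ Y) (hT : ∀ i, cS.π.app i ≫ t i = T)

include ht hγ hT in
/-- Base change for the inverse image of a sheaf on the base passes to limits over the base. -/
theorem isIso_bcQ_limit_over (hS : IsLimit cS) (hT' : IsLimit cT) (F : EtCoh.Ab Y) (q : ℕ)
    (hstage : ∀ (i : I) (e : pullback g (γ.app i ≫ t i) ⟶ Dt.obj i) (h : pullback g (γ.app i ≫ t i) ⟶ pullback g (t i))
      (c : IsPullback e h (γ.app i) (pullback.snd g (t i))) [PreservesFiniteLimits (EtCoh.pull e)],
      IsIso (EtBC.bcQ (γ.app i) (pullback.snd g (t i)) h e c.w q ((EtCoh.pull (γ.app i ≫ t i)).obj F)))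
    {Z : Scheme.{u}} (e : Z ⟶ cT.pt) (h : Z ⟶ pullback g T)
    (c : IsPullback e h γ' (pullback.snd g T)) [PreservesFiniteLimits (EtCoh.pull e)] :
    IsIso (EtBC.bcQ γ' (pullback.snd g T) h e c.w q ((EtCoh.pull (γ' ≫ T)).obj F)) := by
  let t' : ∀ i, Dt.obj i ⟶ Y := fun i => γ.app i ≫ t i
  have ht' : ∀ {i j : I} (φ : i ⟶ j), Dt.map φ ≫ t' j = t' i := fun {i j} φ => by
    show Dt.map φ ≫ γ.app j ≫ t j = γ.app i ≫ t i
    rw [← Category.assoc, γ.naturality, Category.assoc, ht]
  have hT₂ : ∀ i, cT.π.app i ≫ t' i = γ' ≫ T := fun i => by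
    show cT.π.app i ≫ γ.app i ≫ t i = _
    rw [← Category.assoc, ← hγ, Category.assoc, hT]
  let D₁ := L19.Limit.baseDiagram g t ht
  let D₂ := L19.Limit.baseDiagram g t' ht'
  let fN : D₁ ⟶ Ds := L19.Limit.baseSnd g t ht
  let eN : D₂ ⟶ Dt := L19.Limit.baseSnd g t' ht'
  let hN : D₂ ⟶ D₁ :=
    { app := fun i => pullback.lift (pullback.fst g (t' i)) (pullback.snd g (t' i) ≫ γ.app i)
        (by rw [Category.assoc]; exact pullback.condition)
      naturality := fun i j φ => by
        apply pullback.hom_ext <;> simp [D₁, D₂, L19.Limit.baseDiagram] }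
  have sqs : ∀ i, IsPullback (eN.app i) (hN.app i) (γ.app i) (fN.app i) := fun i => by
    refine (IsPullback.of_right (h₁₂ := pullback.fst g (t i)) (h₂₂ := t i) ?_ ?_
      (IsPullback.of_hasPullback g (t i))).flip
    · rw [show hN.app i ≫ pullback.fst g (t i) = pullback.fst g (t' i) from pullback.lift_fst _ _ _]
      exact IsPullback.of_hasPullback g (t' i)
    · exact pullback.lift_snd _ _ _
  haveI : ∀ i, PreservesFiniteLimits (EtCoh.pull (eN.app i)) := fun i => EtSite.preservesFiniteLimits_pull _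
  haveI : ∀ (a b : I) (m : a ⟶ b), IsAffineHom (D₁.map m) := fun _ _ m =>
    L19.Limit.isAffineHom_baseDiagram_map g t ht m
  haveI : ∀ (a b : I) (m : a ⟶ b), IsAffineHom (D₂.map m) := fun _ _ m =>
    L19.Limit.isAffineHom_baseDiagram_map g t' ht' m
  haveI : ∀ (a b : I) (m : a ⟶ b), IsAffineHom (Ds.map m) := fun _ _ m => inferInstance
  haveI : ∀ (a b : I) (m : a ⟶ b), IsAffineHom (Dt.map m) := fun _ _ m => inferInstance
  let cY : Cone D₂ :=
    { pt := Z
      π :=
        { app := fun i => pullback.lift (h ≫ pullback.fst g T) (e ≫ cT.π.app i) (by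
            rw [Category.assoc, Category.assoc, hT₂, pullback.condition, ← Category.assoc, ← c.w, Category.assoc])
          naturality := fun i j φ => by
            apply pullback.hom_ext <;> simp [D₂, L19.Limit.baseDiagram] } }
  have cZ : IsPullback (h ≫ pullback.fst g T) e g (γ' ≫ T) :=
    c.flip.paste_horiz (IsPullback.of_hasPullback g T)
  let hcY : IsLimit cY := IsLimit.ofIsoLimit (L19.Limit.isLimitBaseCone g t' ht' (γ' ≫ T) hT₂ hT')
    (Cone.ext cZ.isoPullback fun i => by
      apply pullback.hom_ext <;> simp [cY, L19.Limit.baseCone]).symm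
  let β : Dt ⟶ constD I Y :=
    { app := t'
      naturality := fun i j φ => (ht' φ).trans (Category.comp_id _).symm }
  let L := pullCocn β (c := constC I Y) (e := cT) (γ' ≫ T)
    (fun i => (Category.comp_id _).trans (hT₂ i).symm) (constCocn I F)
  haveI : IsIso (toLim L) :=
    haveI := isIso_toLim_constCocn I F
    isIso_toLim_pullCocn β (c := constC I Y) (e := cT) (γ' ≫ T) _ (constCocn I F)
  haveI : ∀ i, QuasiCompact (γ.app i) := inferInstance
  exact LimBC.isIso_bcQ_limit (fN := fN) (gN := γ) (hN := hN) (eN := eN) sqs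
    (cX := L19.Limit.baseCone g t ht T hT) (cS := cS) (cT := cT) (cY := cY)
    (f := pullback.snd g T) (g := γ') (h := h) (e := e)
    (fun i => ((L19.Limit.isPullback_baseCone g t ht T hT i).w).symm) hγ
    (fun i => by
      apply pullback.hom_ext
      · simp [cY, hN, L19.Limit.baseCone]
      · simp [cY, hN, L19.Limit.baseCone, hγ, ← c.w_assoc])
    (fun i => (pullback.lift_snd _ _ _).symm)
    c q (L19.Limit.isLimitBaseCone g t ht T hT hS) hS hT' hcY L
    fun i => hstage i (eN.app i) (hN.app i) (sqs i)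

end Groth.L27.LocCrit
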