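import Groth.Agent.L27.LocCrit.StrictSq
import Groth.Agent.L27.LocCrit.Limit
import Groth.Agent.L27.LocCrit.AlgSys
import Groth.Agent.L27.SmoothLA.BCCrit
import Groth.Agent.L05.Hensel.IntegralDomain
import Groth.Agent.L05.HensTensor.Integral

/-! # Local acyclicity from base change along open immersions over quasi-finite schemes -/

universe u

open CategoryTheory CategoryTheory.Limits AlgebraicGeometry Opposite IsLocalRing
open scoped TensorProduct

set_option autoImplicit false
set_option backward.isDefEq.respectTransparency.types false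
set_option linter.style.haveILetI false
set_option linter.unusedSectionVars false

noncomputable section

namespace Groth.L27.LocCrit

open Groth.L27.LimCoh Groth.L27.LimBC

/-- Base change for quasi-compact open immersions over locally quasi-finite schemes. -/
def BC {X Y : Scheme.{u}} (g : X ⟶ Y) (L : Set ℕ) (n : ℕ) : Prop :=
  ∀ ⦃Y' : Scheme.{u}⦄ (i : Y' ⟶ Y) [LocallyQuasiFinite i] [LocallyOfFiniteType i] ⦃Y'' : Scheme.{u}⦄ (i' : Y'' ⟶ Y')
    [IsOpenImmersion i'] [QuasiCompact i'] ⦃Z : Scheme.{u}⦄ (e : Z ⟶ Y'') (h : Z ⟶ pullback g i)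
    (c : IsPullback e h i' (pullback.snd g i)) [PreservesFiniteLimits (EtCoh.pull e)] (F : EtCoh.Ab Y''),
    EtAcyc.IsLTorsion L F → ∀ k ≤ n, IsIso (EtBC.bcQ i' (pullback.snd g i) h e c.w k F)

/-- A product of strictly local schemes over a cartesian square maps weakly etale to the fibre product. -/
theorem exists_weaklyEtale_lift {X Y X' Y' SX SY SY' P : Scheme.{u}} {g : X ⟶ Y} {i : Y' ⟶ Y} {g' : X' ⟶ Y'}
    {p : X' ⟶ X} (sq : IsPullback p g' g i) {p₁ : P ⟶ SX} {p₂ : P ⟶ SY'} {sψ : SX ⟶ SY} {sχ : SY' ⟶ SY}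
    (pb : IsPullback p₁ p₂ sψ sχ) (aY : SY ⟶ Y) [WeaklyEtale aY] (aX : SX ⟶ X) [WeaklyEtale aX]
    (aY' : SY' ⟶ Y') [WeaklyEtale aY'] (wψ : aX ≫ g = sψ ≫ aY) (wχ : aY' ≫ i = sχ ≫ aY) :
    ∃ l : P ⟶ X', WeaklyEtale l ∧ l ≫ p = p₁ ≫ aX ∧ l ≫ g' = p₂ ≫ aY' := by
  let uX : SX ⟶ pullback g aY := pullback.lift aX _ wψ
  let uY : SY' ⟶ pullback i aY := pullback.lift aY' _ wχ
  haveI : WeaklyEtale (uX ≫ pullback.fst g aY) := by rw [pullback.lift_fst]; infer_instance
  haveI : WeaklyEtale (uY ≫ pullback.fst i aY) := by rw [pullback.lift_fst]; infer_instance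
  haveI : WeaklyEtale (pullback.fst g aY) := MorphismProperty.pullback_fst (P := @WeaklyEtale) _ _ inferInstance
  haveI : WeaklyEtale (pullback.fst i aY) := MorphismProperty.pullback_fst (P := @WeaklyEtale) _ _ inferInstance
  haveI hX : WeaklyEtale uX := WeaklyEtale.of_comp uX (pullback.fst g aY)
  haveI hY : WeaklyEtale uY := WeaklyEtale.of_comp uY (pullback.fst i aY)
  let π := pullback.fst (pullback.snd g aY) (pullback.snd i aY)
  let π' := pullback.snd (pullback.snd g aY) (pullback.snd i aY)
  let d : pullback (pullback.snd g aY) (pullback.snd i aY) ⟶ X' :=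
    sq.lift (π ≫ pullback.fst g aY) (π' ≫ pullback.fst i aY) (by
      rw [Category.assoc, Category.assoc, pullback.condition, pullback.condition (f := i), ← Category.assoc,
        ← Category.assoc, pullback.condition])
  have cd : IsPullback d π' g' (pullback.fst i aY) := by
    refine IsPullback.of_right ?_ (sq.lift_snd _ _ _) sq
    rw [sq.lift_fst, pullback.condition (f := i)]
    exact (IsPullback.of_hasPullback (pullback.snd g aY) (pullback.snd i aY)).paste_horiz (IsPullback.of_hasPullback g aY)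
  haveI : WeaklyEtale d := MorphismProperty.of_isPullback (P := @WeaklyEtale) cd.flip inferInstance
  let l := pullback.lift (f := pullback.snd g aY) (g := pullback.snd i aY) (p₁ ≫ uX) (p₂ ≫ uY)
    (by rw [Category.assoc, Category.assoc, pullback.lift_snd, pullback.lift_snd]; exact pb.w)
  let m := pullback.map sψ sχ (pullback.snd g aY) (pullback.snd i aY) uX uY (𝟙 _)
    (by rw [Category.comp_id, pullback.lift_snd]) (by rw [Category.comp_id, pullback.lift_snd])
  haveI : WeaklyEtale m := MorphismProperty.pullbackMap (P := @WeaklyEtale)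
    hX hY (pullback.lift_snd _ _ _).symm (pullback.lift_snd _ _ _).symm
  have hl : l = pb.isoPullback.hom ≫ m := by
    apply pullback.hom_ext
    · exact (pullback.lift_fst _ _ _).trans (((Category.assoc _ _ _).trans
        ((congrArg (pb.isoPullback.hom ≫ ·) (pullback.lift_fst _ _ _)).trans
          (pb.isoPullback_hom_fst_assoc uX))).symm)
    · exact (pullback.lift_snd _ _ _).trans (((Category.assoc _ _ _).trans
        ((congrArg (pb.isoPullback.hom ≫ ·) (pullback.lift_snd _ _ _)).trans
          (pb.isoPullback_hom_snd_assoc uY))).symm)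
  haveI : WeaklyEtale l := hl ▸ inferInstance
  refine ⟨l ≫ d, inferInstance, ?_, ?_⟩
  · rw [Category.assoc, sq.lift_fst]
    simp only [l, π, pullback.lift_fst_assoc, Category.assoc, uX, pullback.lift_fst]
  · rw [Category.assoc, sq.lift_snd]
    simp only [l, π', pullback.lift_snd_assoc, Category.assoc, uY, pullback.lift_fst]

/-- Every element has an integral multiple over a ring whose residue field it is algebraic over. -/
theorem hasMul_of_isIntegral {R K : Type u} [CommRing R] [Field K] [Algebra R K] (q : Ideal R) [q.IsPrime]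
    (τ : q.ResidueField →+* K) (hτ : τ.IsIntegral) (h : τ.comp (algebraMap R q.ResidueField) = algebraMap R K) :
    HasMul R K := by
  letI : Algebra q.ResidueField K := τ.toAlgebra
  letI : Algebra (R ⧸ q) K := (τ.comp (algebraMap (R ⧸ q) q.ResidueField)).toAlgebra
  haveI : IsScalarTower (R ⧸ q) q.ResidueField K := IsScalarTower.of_algebraMap_eq' rfl
  haveI : IsScalarTower R (R ⧸ q) K := IsScalarTower.of_algebraMap_eq' <| by
    rw [← h, IsScalarTower.algebraMap_eq R (R ⧸ q) q.ResidueField]
    rfl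
  haveI : Algebra.IsIntegral q.ResidueField K := algebraMap_isIntegral_iff.1 hτ
  haveI : Algebra.IsAlgebraic (R ⧸ q) K := Algebra.IsAlgebraic.trans (R ⧸ q) q.ResidueField K
  intro z
  obtain ⟨y, hy, hint⟩ := (Algebra.IsAlgebraic.isAlgebraic (R := R ⧸ q) z).exists_integral_multiple
  obtain ⟨a, rfl⟩ := Ideal.Quotient.mk_surjective y
  refine ⟨a, ?_, ?_⟩
  · rw [IsScalarTower.algebraMap_apply R (R ⧸ q) K]
    intro h0
    refine hy (Ideal.injective_algebraMap_quotient_residueField q ?_)
    rw [map_zero]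
    exact τ.injective (h0.trans (map_zero τ).symm)
  · rw [IsScalarTower.algebraMap_apply R (R ⧸ q) K, ← Algebra.smul_def]
    haveI : Algebra.IsIntegral R (R ⧸ q) :=
      Algebra.IsIntegral.of_surjective (Algebra.ofId R _) Ideal.Quotient.mk_surjective
    exact isIntegral_trans _ hint

set_option maxHeartbeats 1600000 in
/-- The geometric fibres with algebraically closed residue field are acyclic. -/
theorem isAcyclic_algClosed {X Y : Scheme.{u}} {g : X ⟶ Y} {L : Set ℕ} {n : ℕ} (hL : ∃ l ∈ L, l.Prime)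
    (hBC : BC g L n) (x : X) (RY RX : Type u) [CommRing RY] [CommRing RX] [IsLocalRing RY] [IsLocalRing RX]
    [Algebra (Y.presheaf.stalk (g.base x)) RY] [IsLocalHom (algebraMap (Y.presheaf.stalk (g.base x)) RY)]
    [Hensel.IsStrictHenselization (Y.presheaf.stalk (g.base x)) RY]
    [Algebra (X.presheaf.stalk x) RX] [IsLocalHom (algebraMap (X.presheaf.stalk x) RX)]
    [Hensel.IsStrictHenselization (X.presheaf.stalk x) RX] (ψ : RY →+* RX) [IsLocalHom ψ]
    (hψ : ψ.comp (algebraMap (Y.presheaf.stalk (g.base x)) RY) =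
      (algebraMap (X.presheaf.stalk x) RX).comp (g.stalkMap x).hom)
    (K : Type u) [Field K] [IsAlgClosed K] (σ : RY →+* K) (p : Ideal RY) [p.IsPrime]
    (τp : p.ResidueField →+* K) (hτp : τp.IsIntegral) (hσ : τp.comp (algebraMap RY p.ResidueField) = σ) :
    EtAcyc.IsAcyclicSchemeN L n
      (pullback (Spec.map (CommRingCat.ofHom ψ)) (Spec.map (CommRingCat.ofHom σ))) := by
  let y := g.base x
  obtain ⟨_, _⟩ := StalkBC.henselian_strict y RY
  obtain ⟨_, _⟩ := StalkBC.henselian_strict x RX
  obtain ⟨V, hV, hyV, -⟩ := exists_isAffineOpen_mem_and_subset (X := Y) (x := y) (U := ⊤) trivial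
  let O := Y.presheaf.stalk y
  let R := Γ(Y, V)
  let germ : R →+* O := (Y.presheaf.germ V y hyV).hom
  let φ : R →+* RY := (algebraMap O RY).comp germ
  letI : Algebra R RY := φ.toAlgebra
  haveI : Algebra.WeaklyEtale R RY := Acyclic0.weaklyEtale_strict hV hyV RY
  -- the field over the affine neighbourhood
  letI : Algebra RY K := σ.toAlgebra
  letI : Algebra R K := (σ.comp φ).toAlgebra
  haveI : IsScalarTower R RY K := IsScalarTower.of_algebraMap_eq' rfl
  let q : Ideal R := p.comap φ
  letI : Algebra q.ResidueField p.ResidueField := (Ideal.ResidueField.map q p φ rfl).toAlgebra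
  haveI : IsScalarTower R q.ResidueField p.ResidueField := IsScalarTower.of_algebraMap_eq fun r => by
    rw [IsScalarTower.algebraMap_apply R RY p.ResidueField]
    exact (Ideal.ResidueField.map_algebraMap q p φ rfl r).symm
  haveI := Groth.L05.WE.isSeparable_residueField_of_weaklyEtale (A := R) (B := RY) q p
  have hM : HasMul R K := by
    refine hasMul_of_isIntegral q (τp.comp (algebraMap q.ResidueField p.ResidueField))
      (RingHom.IsIntegral.trans _ _ (algebraMap_isIntegral_iff.2 inferInstance) hτp) ?_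
    rw [RingHom.comp_assoc, ← IsScalarTower.algebraMap_eq, IsScalarTower.algebraMap_eq R RY p.ResidueField,
      ← RingHom.comp_assoc, hσ]
    rfl
  -- the normalisations
  let C := integralClosure R K
  let N := integralClosure RY K
  haveI : IsLocalRing N := Groth.L05.isLocalRing_of_integral_domain (A := RY) N
  haveI : HenselianLocalRing N := Groth.L05.henselianLocalRing_of_integral (A := RY) N
  haveI : IsLocalHom (algebraMap RY N) := L05.HensTensor.isLocalHom_of_isIntegral RY N
  let inc : C →+* N := C.toSubring.subtype.codRestrict N.toSubring fun z => by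
    show IsIntegral RY (z : K)
    exact z.2.tower_top
  let c : Ideal C := (maximalIdeal N).comap inc
  haveI : c.IsPrime := Ideal.comap_isPrime _ _
  let Cc := Localization.AtPrime c
  have hu : ∀ z : c.primeCompl, IsUnit (inc z) := fun z => IsLocalRing.notMem_maximalIdeal.1 z.2
  let lam : Cc →+* N := IsLocalization.lift (M := c.primeCompl) hu
  have hlam : ∀ z : C, lam (algebraMap C Cc z) = inc z := fun z => IsLocalization.lift_eq hu z
  haveI : IsLocalHom lam := ⟨fun a ha => by
    obtain ⟨b, s, rfl⟩ := IsLocalization.exists_mk'_eq c.primeCompl a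
    refine (IsLocalization.AtPrime.isUnit_mk'_iff Cc c b s).2 fun hb => ?_
    have h1 : lam (IsLocalization.mk' Cc b s) * inc s = inc b := by
      rw [← hlam s, ← map_mul, IsLocalization.mk'_spec, hlam]
    exact (IsLocalRing.mem_maximalIdeal _).1 hb (h1 ▸ ha.mul (hu s))⟩
  have hlam_inj : Function.Injective lam := by
    rw [IsLocalization.lift_injective_iff]
    intro a b
    refine ⟨fun h => ?_, fun h => ?_⟩
    · exact congrArg inc (IsLocalization.injective Cc c.primeCompl_le_nonZeroDivisors h)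
    · exact congrArg _ (Subtype.ext (congrArg (fun z : N => (z : K)) h :))
  have hroots : L20.IntCover.HasRoots Cc := by
    refine L20.IntCover.hasRoots_localization (fun P hP hd => ?_) c.primeCompl
    obtain ⟨z, hz'⟩ := IsAlgClosed.exists_root (P.map (algebraMap C K))
      (by rw [hP.degree_map, Polynomial.degree_eq_natDegree hP.ne_zero]; exact_mod_cast hd.ne')
    have hz : Polynomial.eval₂ (algebraMap C K) z P = 0 := (Polynomial.eval_map _ _).symm.trans hz'
    have hzi : IsIntegral R z := isIntegral_trans (A := C) z ⟨P, hP, hz⟩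
    refine ⟨⟨z, hzi⟩, ?_⟩
    have h1 : algebraMap C K (P.eval ⟨z, hzi⟩) = 0 := by
      rw [← Polynomial.eval₂_at_apply]
      exact hz
    exact Subtype.ext h1
  haveI : HenselianLocalRing Cc := L20.IntCover.henselianLocalRing hroots
  haveI : IsAlgClosed (ResidueField Cc) := IsAlgClosed.of_exists_root _ fun P hP hirr => by
    obtain ⟨P', hP', hdeg, hmon⟩ := Polynomial.lifts_and_natDegree_eq_and_monic
      (Polynomial.map_surjective (residue Cc) IsLocalRing.residue_surjective P |> fun ⟨Q, hQ⟩ =>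
        (⟨Q, hQ⟩ : P ∈ Polynomial.lifts (residue Cc))) hP
    obtain ⟨z, hz⟩ := hroots P' hmon (hdeg ▸ hirr.natDegree_pos)
    exact ⟨residue Cc z, by rw [← hP', Polynomial.eval_map, Polynomial.eval₂_at_apply, hz.eq_zero, map_zero]⟩
  -- the map from the strict localization
  let jC : R →+* Cc := (algebraMap C Cc).comp (algebraMap R C)
  have hj : ∀ r : R, lam (jC r) = algebraMap RY N (φ r) := fun r => by
    refine (hlam _).trans (Subtype.ext ?_)
    rfl
  letI : Algebra R O := germ.toAlgebra
  haveI : IsLocalization.AtPrime O (hV.primeIdealOf ⟨y, hyV⟩).asIdeal := hV.isLocalization_stalk ⟨y, hyV⟩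
  have hjU : ∀ r : (hV.primeIdealOf ⟨y, hyV⟩).asIdeal.primeCompl, IsUnit (jC r) := fun r => by
    refine isUnit_of_map_unit lam _ ?_
    rw [hj]
    exact ((IsLocalization.map_units O r).map (algebraMap O RY)).map (algebraMap RY N)
  let f₀ : O →+* Cc := IsLocalization.lift (M := (hV.primeIdealOf ⟨y, hyV⟩).asIdeal.primeCompl) hjU
  have hf₀j : f₀.comp germ = jC := IsLocalization.lift_comp hjU
  let fN : O →+* N := (algebraMap RY N).comp (algebraMap O RY)
  have hlf : lam.comp f₀ = fN := by
    refine IsLocalization.ringHom_ext (hV.primeIdealOf ⟨y, hyV⟩).asIdeal.primeCompl ?_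
    rw [RingHom.comp_assoc]
    exact RingHom.ext fun r => (congrArg lam (RingHom.congr_fun hf₀j r)).trans (hj r)
  haveI : IsLocalHom fN := RingHom.isLocalHom_comp _ _
  haveI : IsLocalHom f₀ := ⟨fun a ha => isUnit_of_map_unit fN a (hlf ▸ ha.map lam)⟩
  let ι := ResidueField.map lam
  let res := ResidueField.map (algebraMap RY N)
  have hres : ∀ z, ∃ w, ι w = res z := by
    intro z
    letI : Algebra (ResidueField Cc) (ResidueField N) := ι.toAlgebra
    have hz : IsIntegral (ResidueField Cc) (res z) := by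
      haveI := (Hensel.IsStrictHenselization.isSepClosure (R := O) (S := RY)).separable
      obtain ⟨P, hP, hPz⟩ := Algebra.IsIntegral.isIntegral (R := ResidueField O) z
      refine ⟨P.map (ResidueField.map f₀), hP.map _, ?_⟩
      rw [Polynomial.eval₂_map]
      have e : ι.comp (ResidueField.map f₀) = res.comp (algebraMap (ResidueField O) (ResidueField RY)) := by
        refine RingHom.ext fun a => ?_
        obtain ⟨o, rfl⟩ := IsLocalRing.residue_surjective a
        exact congrArg (residue N) (RingHom.congr_fun hlf o)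
      rw [show algebraMap (ResidueField Cc) (ResidueField N) = ι from rfl, e, ← Polynomial.hom_eval₂, hPz, map_zero]
    let F := integralClosure (ResidueField Cc) (ResidueField N)
    obtain ⟨w, hw⟩ := (IsAlgClosed.algebraMap_bijective_of_isIntegral (k := ResidueField Cc) (K := F)).2 ⟨_, hz⟩
    exact ⟨w, congrArg Subtype.val hw⟩
  choose τ₀ hτ₀ using hres
  let τ : ResidueField RY →+* ResidueField Cc :=
    { toFun := τ₀
      map_one' := ι.injective ((hτ₀ 1).trans ((map_one res).trans (map_one ι).symm))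
      map_mul' := fun a b => ι.injective (by rw [hτ₀, map_mul, map_mul, hτ₀, hτ₀])
      map_zero' := ι.injective ((hτ₀ 0).trans ((map_zero res).trans (map_zero ι).symm))
      map_add' := fun a b => ι.injective (by rw [hτ₀, map_add, map_add, hτ₀, hτ₀]) }
  have hτ : τ.comp (ResidueField.map (algebraMap O RY)) = ResidueField.map f₀ := by
    refine RingHom.ext fun a => ι.injective ?_
    obtain ⟨o, rfl⟩ := IsLocalRing.residue_surjective a
    exact (hτ₀ _).trans (congrArg (residue N) (RingHom.congr_fun hlf o)).symm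
  obtain ⟨ψ₀, ⟨hψ₀, hψ₀r⟩, -⟩ := Hensel.IsStrictHenselization.universal (R := O) (S := RY) Cc f₀ τ hτ
  have hfac : lam.comp ψ₀ = algebraMap RY N := by
    have hN : res.comp (ResidueField.map (algebraMap O RY)) = ResidueField.map fN := by
      refine RingHom.ext fun a => ?_
      obtain ⟨o, rfl⟩ := IsLocalRing.residue_surjective a
      rfl
    refine (Hensel.IsStrictHenselization.universal (R := O) (S := RY) N fN res hN).unique
      ⟨by rw [RingHom.comp_assoc, hψ₀, hlf], fun z => ?_⟩ ⟨rfl, fun z => rfl⟩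
    show residue N (lam (ψ₀ z)) = _
    exact (congrArg ι (hψ₀r z)).trans (hτ₀ _)
  let Lam : Cc →+* K := N.toSubring.subtype.comp lam
  have hLam : Lam.comp ψ₀ = σ := by rw [RingHom.comp_assoc, hfac]; rfl
  have hψ₀i : ψ₀.IsIntegral := fun z => by
    obtain ⟨P, hP, hPz⟩ := Algebra.IsIntegral.isIntegral (R := RY) (lam z)
    refine ⟨P, hP, hlam_inj ?_⟩
    rw [Polynomial.hom_eval₂, hfac, hPz, map_zero]
  haveI : IsLocalHom ψ₀ := ⟨fun a ha => isUnit_of_map_unit (algebraMap RY N) a (hfac ▸ ha.map lam)⟩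
  -- base change at the limit
  let j : Spec (CommRingCat.of R) ⟶ Y := hV.fromSpec
  let Ds : (Stg R K)ᵒᵖ ⥤ Scheme.{u} := (dA R K).op ⋙ Scheme.Spec
  let Dt : (Stg R K)ᵒᵖ ⥤ Scheme.{u} := (dB R K).op ⋙ Scheme.Spec
  let γ : Dt ⟶ Ds := Functor.whiskerRight (NatTrans.op (dγ R K)) Scheme.Spec
  let cS : Cone Ds := Scheme.Spec.mapCone (coA R K).op
  let cT : Cone Dt := Scheme.Spec.mapCone (coB R K).op
  haveI : PreservesLimitsOfSize.{u, u} Scheme.Spec.{u} := ΓSpec.adjunction.rightAdjoint_preservesLimits
  let hcS : IsLimit cS := isLimitOfPreserves Scheme.Spec (isColimitCoA R K).op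
  let hcT : IsLimit cT := isLimitOfPreserves Scheme.Spec (isColimitCoB R K hM).op
  let t : ∀ S : (Stg R K)ᵒᵖ, Ds.obj S ⟶ Y := fun S =>
    (Spec.map (CommRingCat.ofHom (algebraMap R S.unop.1.1)) ≫ j : _ ⟶ Y)
  have ht : ∀ {S S' : (Stg R K)ᵒᵖ} (m : S ⟶ S'), Ds.map m ≫ t S' = t S := fun {S S'} m => by
    show Spec.map _ ≫ Spec.map _ ≫ j = Spec.map _ ≫ j
    rw [← Category.assoc, ← Spec.map_comp]
    rfl
  let γ' : cT.pt ⟶ cS.pt := Spec.map (CommRingCat.ofHom (algebraMap C K))
  let T : cS.pt ⟶ Y := Spec.map (CommRingCat.ofHom (algebraMap R C)) ≫ j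
  have hγ : ∀ S, γ' ≫ cS.π.app S = cT.π.app S ≫ γ.app S := fun S => by
    show Spec.map _ ≫ Spec.map _ = Spec.map _ ≫ Spec.map _
    rw [← Spec.map_comp, ← Spec.map_comp]
    rfl
  have hT : ∀ S, cS.π.app S ≫ t S = T := fun S => by
    show Spec.map _ ≫ Spec.map _ ≫ j = Spec.map _ ≫ j
    rw [← Category.assoc, ← Spec.map_comp]
    rfl
  haveI : ∀ {S S' : (Stg R K)ᵒᵖ} (f : S ⟶ S'), IsAffineHom (Ds.map f) := fun f =>
    isAffineHom_of_isAffine (X := Spec _) (Y := Spec _) _
  haveI : ∀ {S S' : (Stg R K)ᵒᵖ} (f : S ⟶ S'), IsAffineHom (Dt.map f) := fun f =>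
    isAffineHom_of_isAffine (X := Spec _) (Y := Spec _) _
  haveI hγo : ∀ S, IsOpenImmersion (γ.app S) := fun S => isOpenImmersion_stg R K S.unop
  haveI hγa : ∀ S, IsAffineHom (γ.app S) := fun S => isAffineHom_of_isAffine (X := Spec _) (Y := Spec _) _
  haveI : ∀ S, QuasiCompact (γ.app S) := fun S => inferInstance
  haveI : ∀ S, QuasiSeparated (γ.app S) := fun S => inferInstance
  haveI : IsAffineHom γ' := isAffineHom_of_isAffine (X := Spec _) (Y := Spec _) _
  haveI := EtSite.preservesFiniteLimits_pull (pullback.fst γ' (pullback.snd g T))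
  let gC := pullback.snd g T
  let pbT := IsPullback.of_hasPullback γ' gC
  have hiso : ∀ l ∈ L, l.Prime → ∀ k ≤ n, IsIso (EtBC.bcQ γ' gC (pullback.snd γ' gC) (pullback.fst γ' gC) pbT.w k
      ((EtCoh.pull (γ' ≫ T)).obj (EtCoh.const Y (ZMod l)))) := fun l hlL hl k hk => by
    refine isIso_bcQ_limit_over γ g t ht γ' hγ T hT hcS hcT _ k (fun S e h c _ => ?_) _ _ pbT
    haveI := finite_stg R K S.unop
    haveI hfin : IsFinite (Spec.map (CommRingCat.ofHom (algebraMap R S.unop.1.1))) :=
      (IsFinite.SpecMap_iff _).2 (RingHom.finite_algebraMap.2 inferInstance)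
    have hq : LocallyQuasiFinite (Spec.map (CommRingCat.ofHom (algebraMap R S.unop.1.1))) := inferInstance
    have hf : LocallyOfFiniteType (Spec.map (CommRingCat.ofHom (algebraMap R S.unop.1.1))) := inferInstance
    haveI : LocallyQuasiFinite (t S) := MorphismProperty.comp_mem (W := @LocallyQuasiFinite) _ _ hq inferInstance
    haveI : LocallyOfFiniteType (t S) := MorphismProperty.comp_mem (W := @LocallyOfFiniteType) _ _ hf inferInstance
    haveI := EtSite.preservesFiniteLimits_pull (γ.app S ≫ t S)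
    exact hBC (t S) (γ.app S) e h c _
      (L28.AcyComp.isLTorsion_pull _ (ULA.isLTorsion_const hl hlL Y)) k hk
  -- the strictly local chart
  let aY := Hens2.specOf Y y RY
  let aX := Hens2.specOf X x RX
  haveI : WeaklyEtale aY := Acyclic0.weaklyEtale_fromStrict y RY
  haveI : WeaklyEtale aX := Acyclic0.weaklyEtale_fromStrict x RX
  let aC : Spec (CommRingCat.of Cc) ⟶ cS.pt := Spec.map (CommRingCat.ofHom (algebraMap C Cc))
  haveI : WeaklyEtale aC := (Groth.L20.weaklyEtale_specMap_iff _).2 (by
    have h := Groth.L20.weaklyEtale_isLocalization c.primeCompl Cc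
    have e : (CommRingCat.ofHom (algebraMap C Cc)).hom.toAlgebra = (inferInstance : Algebra C Cc) :=
      Algebra.algebra_ext _ _ fun _ => rfl
    exact e.symm ▸ h)
  have haY : aY = Spec.map (CommRingCat.ofHom φ) ≫ j := by
    show Spec.map _ ≫ Y.fromSpecStalk y = _
    rw [← hV.fromSpecStalk_eq_fromSpecStalk hyV, IsAffineOpen.fromSpecStalk, ← Spec.map_comp_assoc]
    rfl
  have wχ : aC ≫ T = Spec.map (CommRingCat.ofHom ψ₀) ≫ aY := by
    rw [haY]
    show Spec.map _ ≫ Spec.map _ ≫ j = _
    rw [← Category.assoc, ← Spec.map_comp, ← Category.assoc, ← Spec.map_comp]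
    refine congrArg (fun r => Spec.map r ≫ j) (CommRingCat.hom_ext (RingHom.ext fun r => ?_))
    show jC r = ψ₀ (algebraMap O RY (germ r))
    rw [← RingHom.congr_fun hf₀j r, ← hψ₀]
    rfl
  letI : Algebra RY RX := ψ.toAlgebra
  letI : Algebra RY Cc := ψ₀.toAlgebra
  haveI : IsLocalHom (algebraMap RY RX) := ‹IsLocalHom ψ›
  haveI : Algebra.IsIntegral RY Cc := algebraMap_isIntegral_iff.1 hψ₀i
  haveI := FinBC.isLocalRing_tensor RY RX Cc
  let RX' := RX ⊗[RY] Cc
  haveI : Algebra.IsIntegral RX RX' := inferInstance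
  haveI : HenselianLocalRing RX' := Groth.L05.henselianLocalRing_of_integral (A := RX) RX'
  haveI : IsSepClosed (ResidueField RX') := FinBC.isSepClosed_residue RX RX'
  have pb := isPullback_SpecMap_of_isPushout _ _ _ _ (CommRingCat.isPushout_tensorProduct RY RX Cc)
  obtain ⟨b, hb, -, hbg⟩ := exists_weaklyEtale_lift (IsPullback.of_hasPullback g T) pb aY aX aC
    (StalkBC.specOf_comp g x RY RX ψ hψ).symm wχ
  let ρ : Cc →+* RX' := (Algebra.TensorProduct.includeRight (R := RY) (A := RX) (B := Cc)).toRingHom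
  haveI : IsLocalHom ρ := by
    haveI : IsLocalHom (algebraMap RX RX') := L05.HensTensor.isLocalHom_of_isIntegral RX RX'
    haveI : IsLocalHom ψ₀ := inferInstance
    refine ((IsLocalRing.local_hom_TFAE ρ).out 0 4).2 ?_
    haveI : ((maximalIdeal RX').comap ρ).IsPrime := Ideal.comap_isPrime _ _
    refine IsLocalRing.eq_maximalIdeal (Ideal.isMaximal_of_isIntegral_of_isMaximal_comap (R := RY) _ ?_)
    have e : ρ.comp (algebraMap RY Cc) = (algebraMap RX RX').comp ψ := RingHom.ext fun a =>
      ((Algebra.TensorProduct.includeRight (R := RY) (A := RX) (B := Cc)).commutes a).trans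
        (IsScalarTower.algebraMap_apply RY RX RX' a)
    haveI : IsLocalHom ((algebraMap RX RX').comp ψ) := RingHom.isLocalHom_comp _ _
    have h4 : (maximalIdeal RX').comap ((algebraMap RX RX').comp ψ) = maximalIdeal RY :=
      ((IsLocalRing.local_hom_TFAE ((algebraMap RX RX').comp ψ)).out 0 4).1 ‹_›
    rw [Ideal.comap_comap, e, h4]
    exact maximalIdeal.isMaximal RY
  let bS : Spec (CommRingCat.of K) ⟶ Spec (CommRingCat.of Cc) := Spec.map (CommRingCat.ofHom Lam)
  have hbS : bS ≫ aC = γ' := by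
    rw [← Spec.map_comp]
    refine congrArg (fun r => Spec.map r) (CommRingCat.hom_ext (RingHom.ext fun z => ?_))
    exact congrArg Subtype.val (hlam z)
  haveI : IsPreimmersion aC := IsPreimmersion.of_isLocalization c.primeCompl
  haveI : Mono aC := inferInstance
  have cS' : IsPullback (𝟙 (Spec (CommRingCat.of K))) bS γ' aC :=
    ⟨⟨(Category.id_comp γ').trans hbS.symm⟩, ⟨PullbackCone.IsLimit.mk _ (fun s => s.fst)
      (fun s => Category.comp_id _)
      (fun s => by rw [← cancel_mono aC, Category.assoc, hbS]; exact s.condition)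
      fun s m h1 _ => (Category.comp_id m).symm.trans h1⟩⟩
  let m := pullback.snd (Spec.map (CommRingCat.ofHom ρ)) bS
  haveI := EtSite.preservesFiniteLimits_pull m
  haveI : PreservesFiniteLimits (EtCoh.pull (pullback.snd (Spec.map (CommRingCat.ofHom ρ)) bS)) :=
    EtSite.preservesFiniteLimits_pull _
  have hacyc : EtAcyc.IsAcyclicSchemeN L n (pullback (Spec.map (CommRingCat.ofHom ρ)) bS) :=
    SmoothLA.isAcyclicScheme_of_bijective K m hL fun l hlL hl k hk =>
      bijective_Hpull_congr m
        ((EtCore.pullComp (𝟙 (Spec (CommRingCat.of K))) (γ' ≫ T)).symm.app (EtCoh.const Y (ZMod l)) ≪≫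
          EtCore.pullConst (𝟙 (Spec (CommRingCat.of K)) ≫ γ' ≫ T) (ZMod l)) k
        (SmoothLA.bijective_Hpull_of_bcQ gC γ' (pullback.snd γ' gC) (pullback.fst γ' gC) pbT _ k (hiso l hlL hl k hk)
          Cc RX' ρ aC b hbg (PS := Spec (CommRingCat.of K)) (𝟙 (Spec (CommRingCat.of K))) bS cS' (pullback.fst (Spec.map (CommRingCat.ofHom ρ)) bS) m
          (IsPullback.of_hasPullback (Spec.map (CommRingCat.ofHom ρ)) bS))
  have hcomb : IsPullback (pullback.fst (Spec.map (CommRingCat.ofHom ρ)) bS ≫
      Spec.map (CommRingCat.ofHom (algebraMap RX RX'))) m (Spec.map (CommRingCat.ofHom ψ))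
      (Spec.map (CommRingCat.ofHom σ)) := by
    have h := (IsPullback.of_hasPullback (Spec.map (CommRingCat.ofHom ρ)) bS).paste_horiz pb
    have e : bS ≫ Spec.map (CommRingCat.ofHom ψ₀) = Spec.map (CommRingCat.ofHom σ) := by
      rw [← Spec.map_comp, ← CommRingCat.ofHom_comp, hLam]
    exact e ▸ h
  exact XV.isAcyclicScheme_of_iso hcomb.isoPullback.inv hacyc

/-- Acyclicity descends along universal homeomorphisms. -/
theorem isAcyclicScheme_down {L : Set ℕ} {n : ℕ} {U V : Scheme.{u}} (π : U ⟶ V) [IsIntegralHom π]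
    [UniversallyInjective π] [Surjective π] (h : EtAcyc.IsAcyclicSchemeN L n U) : EtAcyc.IsAcyclicSchemeN L n V := by
  obtain ⟨h1, h2, h3⟩ := h
  refine ⟨⟨π (Classical.arbitrary U)⟩, π.surjective.connectedSpace π.continuous, fun ℓ hℓ hℓL q hq1 hqn => ?_⟩
  obtain ⟨ε⟩ := FinBC.nonempty_constEquiv π ℓ q
  haveI := h3 ℓ hℓ hℓL q hq1 hqn
  exact ε.toEquiv.subsingleton

/-- Base change for open immersions over quasi-finite schemes gives local acyclicity. -/
theorem isLocAcyclicN_of_bc {X Y : Scheme.{u}} {g : X ⟶ Y} {L : Set ℕ} {n : ℕ} (hL : ∃ l ∈ L, l.Prime)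
    (hBC : BC g L n) : EtAcyc.IsLocAcyclicN g L n := by
  refine XV.isLocAcyclicN_of_fibres g L hL n ?_
  intro x RY RX _ _ _ _ _ _ _ _ _ _ _ _ hc y₁ Ω _ _ algΩ _
  let Q : Ideal RY := y₁.asIdeal
  let iso := Scheme.Spec.residueFieldIso (CommRingCat.of RY) y₁
  let α : (Spec (CommRingCat.of RY)).residueField y₁ →+* Ω := algebraMap _ _
  let τp : Q.ResidueField →+* Ω := α.comp iso.inv.hom
  have hτp : τp.IsIntegral := RingHom.IsIntegral.trans _ _
    (RingHom.isIntegral_of_surjective _ (ConcreteCategory.bijective_of_isIso iso.inv).2)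
    (algebraMap_isIntegral_iff.2 inferInstance)
  let σ : RY →+* Ω := τp.comp (algebraMap RY Q.ResidueField)
  have hs : EtAcyc.geomPt (Spec (CommRingCat.of RY)) y₁ Ω = Spec.map (CommRingCat.ofHom σ) := by
    show Spec.map _ ≫ (Spec (CommRingCat.of RY)).fromSpecResidueField y₁ = _
    rw [← Scheme.Spec.map_residueFieldIso_inv_eq_fromSpecResidueField, ← Spec.map_comp, ← Spec.map_comp]
    rfl
  let K := AlgebraicClosure Ω
  haveI : IsPurelyInseparable Ω K := L05.isPurelyInseparable_of_isSepClosed_base Ω K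
  let r := Spec.map (CommRingCat.ofHom (algebraMap Ω K))
  haveI : Algebra.IsAlgebraic Ω K := AlgebraicClosure.isAlgebraic Ω
  haveI : IsIntegralHom r := IsIntegralHom.SpecMap_iff.mpr (algebraMap_isIntegral_iff.mpr inferInstance)
  haveI : UniversallyInjective r := L05.CurveNorm.universallyInjective_ext Ω K
  haveI : Surjective r := L05.CurveNorm.surjective_ext Ω K
  let hm := Spec.map (CommRingCat.ofHom (algebraMap RY RX))
  let s := EtAcyc.geomPt (Spec (CommRingCat.of RY)) y₁ Ω
  let π := pullback.fst (pullback.snd hm s) r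
  haveI : IsIntegralHom π := MorphismProperty.pullback_fst (P := @IsIntegralHom) _ _ inferInstance
  haveI : UniversallyInjective π := MorphismProperty.pullback_fst (P := @UniversallyInjective) _ _ inferInstance
  haveI : Surjective π := MorphismProperty.pullback_fst (P := @Surjective) _ _ inferInstance
  refine isAcyclicScheme_down π ?_
  have h2 := (IsPullback.of_hasPullback (pullback.snd hm s) r).paste_horiz (IsPullback.of_hasPullback hm s)
  have e : r ≫ s = Spec.map (CommRingCat.ofHom ((algebraMap Ω K).comp σ)) := by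
    show Spec.map _ ≫ EtAcyc.geomPt (Spec (CommRingCat.of RY)) y₁ Ω = _
    rw [hs, ← Spec.map_comp]
    rfl
  rw [e] at h2
  exact XV.isAcyclicScheme_of_iso h2.isoPullback.hom
    (isAcyclic_algClosed hL hBC x RY RX (algebraMap RY RX) hc K ((algebraMap Ω K).comp σ) Q
      ((algebraMap Ω K).comp τp) (RingHom.IsIntegral.trans _ _ hτp (algebraMap_isIntegral_iff.2 inferInstance))
      (RingHom.comp_assoc _ _ _))

end Groth.L27.LocCrit
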