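import Groth.Agent.L27.DerBC.Descend
import Groth.Agent.L27.StalkBC.BCStep
import Groth.Agent.L27.CompTransfer.Torsion
import Groth.Agent.L27.CompTransfer.Transfer
import Groth.Agent.L27.ULA.BcMapLow

/-! # Base change maps in low degrees from the derived base change morphism -/

universe u

open CategoryTheory CategoryTheory.Limits AlgebraicGeometry Opposite

attribute [local instance] HasDerivedCategory.standard

set_option autoImplicit false
set_option backward.isDefEq.respectTransparency.types false
set_option linter.style.haveILetI false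
set_option linter.unusedSectionVars false
set_option synthInstance.maxHeartbeats 100000

noncomputable section

namespace Groth.L27.LocCrit

variable {X S Y T : Scheme.{u}} (f : X ⟶ S) (g : T ⟶ S) [QuasiCompact g] [QuasiSeparated g]
  (h : Y ⟶ X) (e : Y ⟶ T) (c : IsPullback e h g f) [PreservesFiniteLimits (EtCoh.pull e)]
  [PreservesFiniteLimits (EtCoh.pull f)] [DCoh.HasRpushEt T g] [DCoh.HasRpushEt Y h] [DCoh.HasRpushEt X f]
  (adj : EtBC.pullD f ⊣ DCoh.RpushEt X f) (L : Set ℕ) (n : ℕ)
  (H : ∀ F : EtCoh.Ab T, EtAcyc.IsLTorsion L F → ∀ q : ℕ, q ≤ n →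
    IsIso ((DerivedCategory.homologyFunctor (EtCoh.Ab X) (q : ℤ)).map
      (EtBC.bcMap g f h e c.w adj (EtBC.single T F))))

include H in
/-- Invertibility on low cohomology sheaves gives invertible base change maps in low degrees. -/
theorem isIso_bcQ_of_bcMap : ∀ k ≤ n, ∀ F : EtCoh.Ab T, EtAcyc.IsLTorsion L F →
    IsIso (EtBC.bcQ g f h e c.w k F) := by
  intro k
  induction k with
  | zero =>
    intro hk F hF
    haveI := DerBC.isIso_baseChange0_of_bcMap g f h e c.w adj F (H F hF 0 hk)
    haveI : IsIso ((EtCoh.pull f).map ((EtCoh.push g).toRightDerivedZero.app F) ≫ EtBC.bcQ g f h e c.w 0 F) := by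
      haveI := DerBC.preservesFiniteLimits_push g
      haveI := DerBC.preservesFiniteLimits_push h
      rw [EtBC.bcQ_zero_compat g f h e c.w F]
      infer_instance
    haveI := DerBC.preservesFiniteLimits_push g
    exact IsIso.of_isIso_comp_left ((EtCoh.pull f).map ((EtCoh.push g).toRightDerivedZero.app F)) _
  | succ k ih =>
    intro hk F hF
    let I := Injective.under F
    have hmem : ∀ (U : T.Etale) (s : F.obj.obj (op U)), CompTransfer.IsLocKilled L I ((Injective.ι F).hom.app (op U) s) :=
      fun U s x => by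
        obtain ⟨V, q, m, hv, hm, h0⟩ := hF U s x
        refine ⟨V, q, m, hv, hm, ?_⟩
        rw [← NatTrans.naturality_apply (Injective.ι F).hom q.op s, ← map_nsmul, h0, map_zero]
    let u : F ⟶ CompTransfer.tor L I := ⟨{
      app := fun U => AddCommGrpCat.ofHom (((Injective.ι F).hom.app U).hom.codRestrict (CompTransfer.torSub L I U.unop) (hmem U.unop))
      naturality := fun U V q => AddCommGrpCat.hom_ext (AddMonoidHom.ext fun s =>
        Subtype.ext (NatTrans.naturality_apply (Injective.ι F).hom q s)) }⟩
    haveI : Mono u := mono_of_mono_fac (show u ≫ CompTransfer.torι L I = Injective.ι F from rfl)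
    let E : ShortComplex (EtCoh.Ab T) := ShortComplex.mk u (cokernel.π u) (cokernel.condition u)
    have hE : E.ShortExact := { exact := ShortComplex.exact_of_g_is_cokernel _ (cokernelIsCokernel _) }
    have hG : EtAcyc.IsLTorsion L E.X₂ := CompTransfer.isLTorsion_tor L I
    have hz := CompTransfer.isZero_Rpush_of_acyc g _ (CompTransfer.acyc_tor L I) (k + 1) (Nat.succ_pos k)
    have hz' : IsZero ((EtCoh.Rpush h (k + 1)).obj ((EtCoh.pull e).obj E.X₂)) :=
      DerBC.isZero_Rpush_of_bcMap f g e h c.w adj E.X₂ (k + 1) (H _ hG (k + 1) hk) hz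
    obtain ⟨hm, hc⟩ := StalkBC.step f g h e c hE (ih (Nat.le_of_succ_le hk) _ hG)
      (ih (Nat.le_of_succ_le hk) _ (CompTransfer.isLTorsion_of_epi (cokernel.π u) hG)) hz
    haveI := hm
    haveI := hc
    haveI : Epi (EtBC.bcQ g f h e c.w (k + 1) E.X₁) :=
      Preadditive.epi_of_isZero_cokernel _ (IsZero.of_mono (cokernel.desc (EtBC.bcQ g f h e c.w (k + 1) E.X₁) _
        (StalkBC.bcQ_comp_zero f g h e c hz)) hz')
    exact isIso_of_mono_of_epi _

end Groth.L27.LocCrit
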