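import Groth.Agent.L27.LocCrit.Backward
import Groth.Agent.L27.LocCrit.FromBcMap
import Groth.Agent.L27.XV.Proper
import Groth.Agent.L27.ULA.Main
import Groth.Agent.L10.EtLocalBC.DerLocal

/-! # Local acyclicity and base change along open immersions -/

universe u

open CategoryTheory CategoryTheory.Limits AlgebraicGeometry Opposite

attribute [local instance] HasDerivedCategory.standard

set_option autoImplicit false
set_option backward.isDefEq.respectTransparency.types false
set_option linter.style.haveILetI false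
set_option linter.unusedSectionVars false

noncomputable section

namespace Groth.L27.LocCrit

theorem isLocAcyclicN_of_noPrime {X Y : Scheme.{u}} (g : X ⟶ Y) (L : Set ℕ) (hL : ∀ ℓ ∈ L, ¬ ℓ.Prime) (n : ℕ) :
    EtAcyc.IsLocAcyclicN g L n := by
  intro x RY RX _ _ _ _ _ _ _ _ _ _ _ _ _ V F hF _
  have hz : IsZero F := XV.isZero_of_no_prime hL hF
  have h1 : ∀ q, Subsingleton ((EtCoh.HF V.left q).obj F) := fun q =>
    AddCommGrpCat.subsingleton_of_isZero ((EtCoh.HF V.left q).map_isZero hz)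
  have h2 : ∀ q, Subsingleton ((EtCoh.HF _ q).obj ((EtCoh.pull (EtAcyc.prj
      (Spec.map (CommRingCat.ofHom (algebraMap RY RX))) V)).obj F)) := fun q =>
    AddCommGrpCat.subsingleton_of_isZero ((EtCoh.HF _ q).map_isZero ((EtCoh.pull _).map_isZero hz))
  refine ⟨fun q _ => ⟨fun a b _ => @Subsingleton.elim _ (h1 q) a b, fun b => ⟨0, @Subsingleton.elim _ (h2 q) _ b⟩⟩, ?_⟩
  exact fun a b _ => @Subsingleton.elim _ (h1 (n + 1)) a b

/-- Local acyclicity is stable under locally quasi-finite base change of finite type. -/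
theorem isLocAcyclicN_baseChange {X Y X' Y' : Scheme.{u}} {g : X ⟶ Y} {i : Y' ⟶ Y} {g' : X' ⟶ Y'} {p : X' ⟶ X}
    (sq : IsPullback p g' g i) [LocallyQuasiFinite i] [LocallyOfFiniteType i] {L : Set ℕ} {n : ℕ}
    (H : EtAcyc.IsLocAcyclicN g L n) : EtAcyc.IsLocAcyclicN g' L n := by
  by_cases hL : ∃ ℓ ∈ L, ℓ.Prime
  · refine XV.isLocAcyclicN_of_fibres g' L hL n (geomFibres_baseChange sq L n ?_)
    exact fun x RY RX _ _ _ _ _ _ _ _ _ _ _ _ hc => FinBC.geomFibres_of_isAcyclicN _ L hL n (H x RY RX hc)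
  · push Not at hL
    exact isLocAcyclicN_of_noPrime g' L hL n

/-- A locally acyclic morphism satisfies base change along quasi-compact open immersions. -/
theorem isIso_bcQ_openImmersion {X Y Y'' : Scheme.{u}} (g : X ⟶ Y) {L : Set ℕ} {n : ℕ}
    (H : EtAcyc.IsLocAcyclicN g L n) (j : Y'' ⟶ Y) [IsOpenImmersion j] [QuasiCompact j] {Z : Scheme.{u}}
    (e : Z ⟶ Y'') (h : Z ⟶ X) (c : IsPullback e h j g) [PreservesFiniteLimits (EtCoh.pull e)] :
    ∀ F : EtCoh.Ab Y'', EtAcyc.IsLTorsion L F → ∀ k ≤ n, IsIso (EtBC.bcQ j g h e c.w k F) :=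
  ULA.isIso_bcQ_le g j h e c L n fun x RS _ _ _ _ _ RX _ _ _ _ _ ψ hl hψ PS PX aS bS cS bX m cm => by
    letI : Algebra RS RX := ψ.toAlgebra
    haveI : IsLocalHom (algebraMap RS RX) := hl
    haveI : IsOpenImmersion bS := MorphismProperty.of_isPullback (P := @IsOpenImmersion) cS inferInstance
    exact ULA.compN_of_isAcyclicN (H x RS RX hψ) (Scheme.Etale.mk bS) cm

/-- Base change in low degrees from the derived maps, for every cartesian square. -/
theorem bc_of_bcMap {X Y : Scheme.{u}} {g : X ⟶ Y} {L : Set ℕ} {n : ℕ}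
    (H : ∀ (Y' : Scheme.{u}) (i : Y' ⟶ Y) [LocallyQuasiFinite i] [LocallyOfFiniteType i]
        (Y'' : Scheme.{u}) (i' : Y'' ⟶ Y') [IsOpenImmersion i'] [QuasiCompact i']
        [PreservesFiniteLimits (EtCoh.pull (pullback.snd g i))]
        [PreservesFiniteLimits (EtCoh.pull (pullback.snd (pullback.snd g i) i'))]
        [DCoh.HasRpushEt Y'' i'] [DCoh.HasRpushEt (pullback (pullback.snd g i) i') (pullback.fst (pullback.snd g i) i')]
        [DCoh.HasRpushEt (pullback g i) (pullback.snd g i)]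
        (adj : EtBC.pullD (pullback.snd g i) ⊣ DCoh.RpushEt (pullback g i) (pullback.snd g i))
        (F : EtCoh.Ab Y''), EtAcyc.IsLTorsion L F → ∀ q : ℕ, q ≤ n →
          IsIso ((DerivedCategory.homologyFunctor (EtCoh.Ab (pullback g i)) (q : ℤ)).map
          (EtBC.bcMap i' (pullback.snd g i) (pullback.fst (pullback.snd g i) i') (pullback.snd (pullback.snd g i) i')
            pullback.condition.symm adj (EtBC.single Y'' F)))) : BC g L n := by
  intro Y' i _ _ Y'' i' _ _ Z e h c _ F hF k hk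
  let g₁ := pullback.snd g i
  have c₀ := (IsPullback.of_hasPullback g₁ i').flip
  haveI := EtSite.preservesFiniteLimits_pull g₁
  haveI := EtSite.preservesFiniteLimits_pull (pullback.snd g₁ i')
  haveI := L10.EtLocalBC.hasRpushEt i'
  haveI := L10.EtLocalBC.hasRpushEt (pullback.fst g₁ i')
  haveI := L10.EtLocalBC.hasRpushEt g₁
  have h0 := isIso_bcQ_of_bcMap g₁ i' _ _ c₀ (L10.EtLocalBC.adjEt g₁) L n
    (fun F hF q hq => H Y' i Y'' i' (L10.EtLocalBC.adjEt g₁) F hF q hq) k hk F hF
  have h1 := LimBC.isIso_bcQ_restrict c₀ F k (𝟙 (pullback g i)) (𝟙 Y') g₁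
    (by rw [Category.comp_id, Category.id_comp]) (𝟙 Y'') i'
    (IsPullback.of_horiz_isIso ⟨by rw [Category.id_comp, Category.comp_id]⟩) h e c h0
  exact LimBC.isIso_bcQ_retract i' g₁ h e c.w k (@asIso _ _ _ _ _ (LimBC.isIso_transpose_pushUnit₀ F)).inv
    (@asIso _ _ _ _ _ (LimBC.isIso_transpose_pushUnit₀ F)).hom (Iso.inv_hom_id _) h1

end Groth.L27.LocCrit
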