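import Groth.Agent.L27.XV.Global
import Groth.Agent.L27.XV.Transfer
import Groth.Agent.L05.HensTensor.QuasiFinite
import Groth.Agent.L27.OlivierMain
import Groth.Agent.L28.AcyComp.StrictTower
import Groth.Agent.L27.FinBC.LAPoint
import Groth.Agent.L27.FinBC.StrictInt

/-! # Strict localizations along locally quasi-finite base changes -/

universe u

open CategoryTheory CategoryTheory.Limits AlgebraicGeometry Opposite IsLocalRing
open scoped TensorProduct

set_option autoImplicit false
set_option backward.isDefEq.respectTransparency.types false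
set_option linter.style.haveILetI false
set_option linter.unusedSectionVars false

noncomputable section

namespace Groth.L27.LocCrit

open Groth.L27.LimCoh Groth.L27.LimBC

/-- Integral ring maps have algebraic residue extensions. -/
theorem algResidue_of_isIntegral {A B : Type u} [CommRing A] [CommRing B] (χ : A →+* B) (hχ : χ.IsIntegral) :
    XV.AlgResidue (Spec.map (CommRingCat.ofHom χ)) := fun x => by
  letI : Algebra A B := χ.toAlgebra
  let φ := CommRingCat.ofHom χ
  let f := Spec.map φ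
  let p := (f x).asIdeal
  let q := x.asIdeal
  let ψ : CommRingCat.of p.ResidueField ⟶ CommRingCat.of q.ResidueField :=
    (Scheme.Spec.residueFieldIso (CommRingCat.of A) (f x)).inv ≫ f.residueFieldMap x ≫
      (Scheme.Spec.residueFieldIso (CommRingCat.of B) x).hom
  letI : Algebra p.ResidueField q.ResidueField := ψ.hom.toAlgebra
  have hψ : CommRingCat.ofHom (algebraMap A p.ResidueField) ≫ ψ = φ ≫ CommRingCat.ofHom (algebraMap B q.ResidueField) := by
    have e : CommRingCat.ofHom (algebraMap B q.ResidueField) =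
        ((Scheme.ΓSpecIso (CommRingCat.of B)).inv ≫ (Spec (CommRingCat.of B)).presheaf.germ ⊤ x trivial ≫
          (Spec (CommRingCat.of B)).residue x) ≫ (Scheme.Spec.residueFieldIso (CommRingCat.of B) x).hom := by
      rw [← Scheme.Spec.algebraMap_residueFieldIso_inv, Category.assoc, Iso.inv_hom_id, Category.comp_id]
    refine (Scheme.Spec.algebraMap_residueFieldIso_inv_assoc (CommRingCat.of A) (f x) _).trans ?_
    rw [e]
    simp only [Category.assoc]
    rw [Scheme.residue_residueFieldMap_assoc, Scheme.Hom.germ_stalkMap_assoc,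
      Scheme.ΓSpecIso_inv_naturality_assoc]
    rfl
  haveI : Algebra.IsIntegral A B := algebraMap_isIntegral_iff.1 hχ
  have hb : ∀ b : B, IsIntegral p.ResidueField (algebraMap B q.ResidueField b) := fun b => by
    obtain ⟨P, hP, hPb⟩ := Algebra.IsIntegral.isIntegral (R := A) b
    refine ⟨P.map (algebraMap A p.ResidueField), hP.map _, ?_⟩
    rw [Polynomial.eval₂_map,
      show (algebraMap p.ResidueField q.ResidueField).comp (algebraMap A p.ResidueField) =
        (algebraMap B q.ResidueField).comp (algebraMap A B) from congrArg CommRingCat.Hom.hom hψ,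
      ← Polynomial.hom_eval₂, hPb, map_zero]
  have hψi : ψ.hom.IsIntegral := fun z => by
    obtain ⟨a, b, -, hz⟩ := IsFractionRing.div_surjective (A := B ⧸ q) z
    obtain ⟨a, rfl⟩ := Ideal.Quotient.mk_surjective a
    obtain ⟨b, rfl⟩ := Ideal.Quotient.mk_surjective b
    have ea : ∀ c : B, algebraMap (B ⧸ q) q.ResidueField (Ideal.Quotient.mk q c) = algebraMap B q.ResidueField c :=
      fun c => (IsScalarTower.algebraMap_apply B (B ⧸ q) q.ResidueField c).symm
    rw [← hz, div_eq_mul_inv]
    exact (ea a ▸ hb a).mul (ea b ▸ hb b).inv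
  have h1 : f.residueFieldMap x = (Scheme.Spec.residueFieldIso (CommRingCat.of A) (f x)).hom ≫ ψ ≫
      (Scheme.Spec.residueFieldIso (CommRingCat.of B) x).inv := by
    simp [ψ]
  show (f.residueFieldMap x).hom.IsIntegral
  rw [h1]
  refine RingHom.IsIntegral.trans _ _
    (RingHom.isIntegral_of_surjective _
      (ConcreteCategory.bijective_of_isIso (Scheme.Spec.residueFieldIso (CommRingCat.of A) (f x)).hom).2) ?_
  exact RingHom.IsIntegral.trans _ _ hψi (RingHom.isIntegral_of_surjective _
    (ConcreteCategory.bijective_of_isIso (Scheme.Spec.residueFieldIso (CommRingCat.of B) x).inv).2)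

/-- An affine chart of a weakly etale strictly local scheme. -/
theorem exists_chart {X : Scheme.{u}} {U : X.Opens} (hU : IsAffineOpen U) (T : Type u) [CommRing T] [IsLocalRing T]
    (η : Spec (CommRingCat.of T) ⟶ X) [WeaklyEtale η] (hη : η (closedPoint T) ∈ U) :
    ∃ φ : Γ(X, U) →+* T, Spec.map (CommRingCat.ofHom φ) ≫ hU.fromSpec = η ∧
      (letI := φ.toAlgebra; Algebra.WeaklyEtale Γ(X, U) T) := by
  have hr : Set.range η ⊆ Set.range hU.fromSpec := by
    rw [hU.range_fromSpec]
    rintro _ ⟨z, rfl⟩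
    have := Scheme.preimage_eq_top_of_closedPoint_mem η hη
    exact (this.ge (Set.mem_univ z) : z ∈ η ⁻¹ᵁ U)
  let l := IsOpenImmersion.lift hU.fromSpec η hr
  have hl : Spec.map (CommRingCat.ofHom (Spec.preimage l).hom) ≫ hU.fromSpec = η :=
    (congrArg (· ≫ hU.fromSpec) (Spec.map_preimage l)).trans (IsOpenImmersion.lift_fac _ _ _)
  refine ⟨(Spec.preimage l).hom, hl, ?_⟩
  letI : Algebra Γ(X, U) T := (Spec.preimage l).hom.toAlgebra
  haveI : WeaklyEtale (Spec.map (CommRingCat.ofHom (algebraMap Γ(X, U) T)) ≫ hU.fromSpec) := by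
    show WeaklyEtale (Spec.map (CommRingCat.ofHom (Spec.preimage l).hom) ≫ hU.fromSpec)
    rw [hl]
    infer_instance
  have h := (L20.weaklyEtale_specMap_iff (CommRingCat.ofHom (algebraMap Γ(X, U) T))).1
    (WeaklyEtale.of_comp _ hU.fromSpec)
  convert h using 1

/-- Maps of strict localizations along locally quasi-finite morphisms of finite type are integral. -/
theorem isIntegral_strict_lqf {Y Y' : Scheme.{u}} (i : Y' ⟶ Y) [LocallyQuasiFinite i] [LocallyOfFiniteType i]
    (RY RY' : Type u) [CommRing RY] [HenselianLocalRing RY] [IsSepClosed (ResidueField RY)] [CommRing RY']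
    [IsLocalRing RY'] (χ : RY →+* RY') [IsLocalHom χ] (a : Spec (CommRingCat.of RY) ⟶ Y) [WeaklyEtale a]
    (a' : Spec (CommRingCat.of RY') ⟶ Y') [WeaklyEtale a']
    (w : Spec.map (CommRingCat.ofHom χ) ≫ a = a' ≫ i) : χ.IsIntegral := by
  obtain ⟨V, hV, hyV, -⟩ := exists_isAffineOpen_mem_and_subset (X := Y) (x := a (closedPoint RY)) (U := ⊤) trivial
  have hia : i (a' (closedPoint RY')) = a (closedPoint RY) := by
    rw [← Scheme.Hom.comp_apply, ← w, Scheme.Hom.comp_apply]
    exact congrArg a (IsLocalRing.comap_closedPoint χ)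
  obtain ⟨W, hW, hxW, e⟩ := exists_isAffineOpen_mem_and_subset (X := Y') (x := a' (closedPoint RY')) (U := i ⁻¹ᵁ V)
    (show i (a' (closedPoint RY')) ∈ V from hia ▸ hyV)
  replace e : W ≤ i ⁻¹ᵁ V := e
  obtain ⟨φ, hφ, hwφ⟩ := exists_chart hV RY a hyV
  obtain ⟨φ', hφ', hwφ'⟩ := exists_chart hW RY' a' hxW
  letI : Algebra Γ(Y, V) Γ(Y', W) := (i.appLE V W e).hom.toAlgebra
  haveI : Algebra.FiniteType Γ(Y, V) Γ(Y', W) :=
    RingHom.finiteType_algebraMap.1 (LocallyOfFiniteType.finiteType_appLE i hV hW e)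
  haveI : Algebra.QuasiFinite Γ(Y, V) Γ(Y', W) :=
    RingHom.quasiFinite_algebraMap.1 (LocallyQuasiFinite.quasiFinite_appLE (f := i) hV hW e)
  letI : Algebra Γ(Y, V) RY := φ.toAlgebra
  letI : Algebra Γ(Y', W) RY' := φ'.toAlgebra
  letI : Algebra RY RY' := χ.toAlgebra
  letI : Algebra Γ(Y, V) RY' := (φ'.comp (i.appLE V W e).hom).toAlgebra
  haveI : IsScalarTower Γ(Y, V) Γ(Y', W) RY' := IsScalarTower.of_algebraMap_eq' rfl
  haveI : IsScalarTower Γ(Y, V) RY RY' := IsScalarTower.of_algebraMap_eq' <| by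
    have h : CommRingCat.ofHom φ ≫ CommRingCat.ofHom χ = i.appLE V W e ≫ CommRingCat.ofHom φ' := by
      apply Spec.map_injective
      rw [← cancel_mono hV.fromSpec, Spec.map_comp, Spec.map_comp, Category.assoc, Category.assoc, hφ, w,
        IsAffineOpen.SpecMap_appLE_fromSpec i hV hW e, ← Category.assoc, hφ']
    exact (congrArg CommRingCat.Hom.hom h).symm
  haveI : Algebra.WeaklyEtale Γ(Y, V) RY := hwφ
  haveI : Algebra.WeaklyEtale Γ(Y', W) RY' := hwφ'
  haveI : IsLocalHom (algebraMap RY RY') := ‹IsLocalHom χ›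
  haveI : Module.Finite RY RY' := L05.HensTensor.finite_of_quasiFiniteAt (R := Γ(Y, V)) (S := Γ(Y', W))
    ((maximalIdeal RY').comap (algebraMap Γ(Y', W) RY')) rfl
    fun D _ _ _ _ _ _ _ _ _ _ => L05.HensTensor.surjective_of_isSepClosed RY D RY'
  exact algebraMap_isIntegral_iff.2 inferInstance

/-- The square of strict localizations of a locally quasi-finite base change is cartesian. -/
theorem isPullback_strict {X Y X' Y' : Scheme.{u}} {g : X ⟶ Y} {i : Y' ⟶ Y} {g' : X' ⟶ Y'} {p : X' ⟶ X}
    (sq : IsPullback p g' g i) (RY RX RY' RX' : Type u) [CommRing RY] [HenselianLocalRing RY]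
    [IsSepClosed (ResidueField RY)] [CommRing RX] [HenselianLocalRing RX] [IsSepClosed (ResidueField RX)]
    [CommRing RY'] [IsLocalRing RY'] [CommRing RX'] [IsLocalRing RX']
    (ψ : RY →+* RX) [IsLocalHom ψ] (χ : RY →+* RY') (hχ : χ.IsIntegral) (ρ : RY' →+* RX') (μ : RX →+* RX')
    [IsLocalHom μ] (e : ρ.comp χ = μ.comp ψ)
    (aY : Spec (CommRingCat.of RY) ⟶ Y) [WeaklyEtale aY] (aX : Spec (CommRingCat.of RX) ⟶ X) [WeaklyEtale aX]
    (aY' : Spec (CommRingCat.of RY') ⟶ Y') [WeaklyEtale aY']
    (aX' : Spec (CommRingCat.of RX') ⟶ X') [WeaklyEtale aX']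
    (wψ : aX ≫ g = Spec.map (CommRingCat.ofHom ψ) ≫ aY) (wχ : aY' ≫ i = Spec.map (CommRingCat.ofHom χ) ≫ aY)
    (wρ : aX' ≫ g' = Spec.map (CommRingCat.ofHom ρ) ≫ aY') (wμ : aX' ≫ p = Spec.map (CommRingCat.ofHom μ) ≫ aX) :
    IsPullback (Spec.map (CommRingCat.ofHom μ)) (Spec.map (CommRingCat.ofHom ρ))
      (Spec.map (CommRingCat.ofHom ψ)) (Spec.map (CommRingCat.ofHom χ)) := by
  letI : Algebra RY RX := ψ.toAlgebra
  letI : Algebra RY RY' := χ.toAlgebra
  letI : Algebra RX RX' := μ.toAlgebra
  letI : Algebra RY' RX' := ρ.toAlgebra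
  letI : Algebra RY RX' := (μ.comp ψ).toAlgebra
  haveI : IsScalarTower RY RX RX' := IsScalarTower.of_algebraMap_eq' rfl
  haveI : IsScalarTower RY RY' RX' := IsScalarTower.of_algebraMap_eq' e.symm
  haveI : IsLocalHom (algebraMap RY RX) := ‹IsLocalHom ψ›
  haveI : Algebra.IsIntegral RY RY' := algebraMap_isIntegral_iff.1 hχ
  haveI := FinBC.isLocalRing_tensor RY RX RY'
  let T := RX ⊗[RY] RY'
  haveI : Algebra.IsIntegral RX T := inferInstance
  haveI : HenselianLocalRing T := Groth.L05.henselianLocalRing_of_integral (A := RX) T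
  haveI : IsSepClosed (ResidueField T) := FinBC.isSepClosed_residue RX T
  let Θ : T →ₐ[RY] RX' :=
    Algebra.TensorProduct.productMap (IsScalarTower.toAlgHom RY RX RX') (IsScalarTower.toAlgHom RY RY' RX')
  have hΘ₁ : Θ.toRingHom.comp (algebraMap RX T) = μ := RingHom.ext fun a => by
    show Θ (a ⊗ₜ 1) = μ a
    exact (Algebra.TensorProduct.productMap_left_apply _ _ a).trans rfl
  have hΘ₂ : Θ.toRingHom.comp
      (Algebra.TensorProduct.includeRight (R := RY) (A := RX) (B := RY')).toRingHom = ρ := RingHom.ext fun b => by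
    show Θ (1 ⊗ₜ b) = ρ b
    exact (Algebra.TensorProduct.productMap_right_apply _ _ b).trans rfl
  haveI : IsLocalHom Θ.toRingHom := by
    refine ((IsLocalRing.local_hom_TFAE Θ.toRingHom).out 0 4).2 ?_
    haveI : ((maximalIdeal RX').comap Θ.toRingHom).IsPrime := Ideal.comap_isPrime _ _
    refine IsLocalRing.eq_maximalIdeal (Ideal.isMaximal_of_isIntegral_of_isMaximal_comap (R := RX) _ ?_)
    have h4 : (maximalIdeal RX').comap μ = maximalIdeal RX :=
      ((IsLocalRing.local_hom_TFAE μ).out 0 4).1 ‹IsLocalHom μ›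
    rw [Ideal.comap_comap, hΘ₁, h4]
    exact maximalIdeal.isMaximal RX
  let p₁ := Spec.map (CommRingCat.ofHom (algebraMap RX T))
  let p₂ := Spec.map (CommRingCat.ofHom (Algebra.TensorProduct.includeRight (R := RY) (A := RX) (B := RY')).toRingHom)
  have pb : IsPullback p₁ p₂ (Spec.map (CommRingCat.ofHom ψ)) (Spec.map (CommRingCat.ofHom χ)) :=
    isPullback_SpecMap_of_isPushout _ _ _ _ (CommRingCat.isPushout_tensorProduct RY RX RY')
  let uX : Spec (CommRingCat.of RX) ⟶ pullback g aY := pullback.lift aX _ wψ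
  let uY : Spec (CommRingCat.of RY') ⟶ pullback i aY := pullback.lift aY' _ wχ
  haveI : WeaklyEtale (uX ≫ pullback.fst g aY) := by rw [pullback.lift_fst]; infer_instance
  haveI : WeaklyEtale (uY ≫ pullback.fst i aY) := by rw [pullback.lift_fst]; infer_instance
  haveI : WeaklyEtale (pullback.fst g aY) := MorphismProperty.pullback_fst (P := @WeaklyEtale) _ _ inferInstance
  haveI : WeaklyEtale (pullback.fst i aY) := MorphismProperty.pullback_fst (P := @WeaklyEtale) _ _ inferInstance
  haveI hX : WeaklyEtale uX := WeaklyEtale.of_comp uX (pullback.fst g aY)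
  haveI hY : WeaklyEtale uY := WeaklyEtale.of_comp uY (pullback.fst i aY)
  let π := pullback.fst (pullback.snd g aY) (pullback.snd i aY)
  let π' := pullback.snd (pullback.snd g aY) (pullback.snd i aY)
  let d : pullback (pullback.snd g aY) (pullback.snd i aY) ⟶ X' :=
    sq.lift (π ≫ pullback.fst g aY) (π' ≫ pullback.fst i aY) (by
      rw [Category.assoc, Category.assoc, pullback.condition, pullback.condition (f := i), ← Category.assoc,
        ← Category.assoc, pullback.condition])
  have cd : IsPullback d π' g' (pullback.fst i aY) := by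
    refine IsPullback.of_right ?_ (sq.lift_snd _ _ _) sq
    rw [sq.lift_fst, pullback.condition (f := i)]
    exact (IsPullback.of_hasPullback (pullback.snd g aY) (pullback.snd i aY)).paste_horiz (IsPullback.of_hasPullback g aY)
  haveI : WeaklyEtale d := MorphismProperty.of_isPullback (P := @WeaklyEtale) cd.flip inferInstance
  let l := pullback.lift (f := pullback.snd g aY) (g := pullback.snd i aY) (p₁ ≫ uX) (p₂ ≫ uY)
    (by rw [Category.assoc, Category.assoc, pullback.lift_snd, pullback.lift_snd]; exact pb.w)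
  haveI : WeaklyEtale l := by
    let m := pullback.map (Spec.map (CommRingCat.ofHom ψ)) (Spec.map (CommRingCat.ofHom χ))
      (pullback.snd g aY) (pullback.snd i aY) uX uY (𝟙 _)
      (by rw [Category.comp_id, pullback.lift_snd]) (by rw [Category.comp_id, pullback.lift_snd])
    haveI : WeaklyEtale m := MorphismProperty.pullbackMap (P := @WeaklyEtale)
      hX hY (pullback.lift_snd _ _ _).symm (pullback.lift_snd _ _ _).symm
    have hl : l = pb.isoPullback.hom ≫ m := by
      apply pullback.hom_ext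
      · exact (pullback.lift_fst _ _ _).trans (((Category.assoc _ _ _).trans
          ((congrArg (pb.isoPullback.hom ≫ ·) (pullback.lift_fst _ _ _)).trans
            (pb.isoPullback_hom_fst_assoc uX))).symm)
      · exact (pullback.lift_snd _ _ _).trans (((Category.assoc _ _ _).trans
          ((congrArg (pb.isoPullback.hom ≫ ·) (pullback.lift_snd _ _ _)).trans
            (pb.isoPullback_hom_snd_assoc uY))).symm)
    rw [hl]
    infer_instance
  have hw : Spec.map (CommRingCat.ofHom Θ.toRingHom) ≫ l ≫ d = aX' := by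
    apply sq.hom_ext
    · rw [Category.assoc, Category.assoc, sq.lift_fst, wμ]
      simp only [l, π, pullback.lift_fst_assoc, Category.assoc, uX, pullback.lift_fst]
      rw [← Spec.map_comp_assoc, ← CommRingCat.ofHom_comp, hΘ₁]
    · rw [Category.assoc, Category.assoc, sq.lift_snd, wρ]
      simp only [l, π', pullback.lift_snd_assoc, Category.assoc, uY, pullback.lift_fst]
      rw [← Spec.map_comp_assoc, ← CommRingCat.ofHom_comp, hΘ₂]
  haveI : WeaklyEtale (Spec.map (CommRingCat.ofHom Θ.toRingHom) ≫ l ≫ d) := by rw [hw]; infer_instance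
  haveI : WeaklyEtale (Spec.map (CommRingCat.ofHom Θ.toRingHom)) := WeaklyEtale.of_comp _ (l ≫ d)
  have hb : Function.Bijective Θ.toRingHom := by
    letI : Algebra T RX' := Θ.toRingHom.toAlgebra
    haveI : IsLocalHom (algebraMap T RX') := ‹IsLocalHom Θ.toRingHom›
    haveI : Algebra.WeaklyEtale T RX' :=
      (L20.weaklyEtale_specMap_iff (CommRingCat.ofHom Θ.toRingHom)).1 ‹_›
    exact Groth.L27.Olivier.bijective_algebraMap T RX'
  haveI : IsIso (CommRingCat.ofHom Θ.toRingHom) :=
    (RingEquiv.ofBijective Θ.toRingHom hb).toCommRingCatIso.isIso_hom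
  have h1 : IsPullback (Spec.map (CommRingCat.ofHom Θ.toRingHom)) (Spec.map (CommRingCat.ofHom ρ)) p₂ (𝟙 _) :=
    IsPullback.of_horiz_isIso ⟨by rw [Category.comp_id, ← Spec.map_comp, ← CommRingCat.ofHom_comp, hΘ₂]⟩
  have h2 := h1.paste_horiz pb
  rw [Category.id_comp, ← Spec.map_comp, ← CommRingCat.ofHom_comp, hΘ₁] at h2
  exact h2

/-- Acyclicity of the geometric fibres of strict localizations is stable under locally quasi-finite base change. -/
theorem geomFibres_baseChange {X Y X' Y' : Scheme.{u}} {g : X ⟶ Y} {i : Y' ⟶ Y} {g' : X' ⟶ Y'} {p : X' ⟶ X}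
    (sq : IsPullback p g' g i) [LocallyQuasiFinite i] [LocallyOfFiniteType i] (L : Set ℕ) (n : ℕ)
    (H : EtAcyc.OnStrictLocalizations g (fun _ _ h => EtAcyc.GeomFibresAcyclicN L n h)) :
    EtAcyc.OnStrictLocalizations g' (fun _ _ h => EtAcyc.GeomFibresAcyclicN L n h) := by
  intro x' RY' RX' _ _ _ _ _ _ _ _ _ _ _ _ hc
  obtain ⟨_, _⟩ := StalkBC.henselian_strict (g'.base x') RY'
  obtain ⟨_, _⟩ := StalkBC.henselian_strict x' RX'
  let x := p.base x'
  let y := g.base x
  obtain ⟨RY, _, _, _, _, hRY⟩ := L05.Henselization.exists_isStrictHenselization (Y.presheaf.stalk y)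
  haveI := hRY
  obtain ⟨RX, _, _, _, _, hRX⟩ := L05.Henselization.exists_isStrictHenselization (X.presheaf.stalk x)
  haveI := hRX
  obtain ⟨_, _⟩ := StalkBC.henselian_strict y RY
  obtain ⟨_, _⟩ := StalkBC.henselian_strict x RX
  obtain ⟨μ, hμl, hμ⟩ := StalkBC.exists_strictMap p x' RX RX'
  obtain ⟨ψ, hψl, hψ⟩ := StalkBC.exists_strictMap g x RY RX
  have hy : i (g'.base x') = y := by
    rw [← Scheme.Hom.comp_apply, ← sq.w, Scheme.Hom.comp_apply]
  let f₀ : Y.presheaf.stalk y ⟶ Y'.presheaf.stalk (g'.base x') :=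
    Y.presheaf.stalkSpecializes (Inseparable.of_eq hy).specializes ≫ i.stalkMap (g'.base x')
  haveI : IsIso (Y.presheaf.stalkSpecializes (Inseparable.of_eq hy).specializes) :=
    ⟨Y.presheaf.stalkSpecializes (Inseparable.of_eq hy.symm).specializes, by simp, by simp⟩
  haveI : IsLocalHom f₀.hom := by
    show IsLocalHom ((i.stalkMap (g'.base x')).hom.comp (Y.presheaf.stalkSpecializes (Inseparable.of_eq hy).specializes).hom)
    haveI : IsLocalHom (Y.presheaf.stalkSpecializes (Inseparable.of_eq hy).specializes).hom :=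
      isLocalHom_of_isIso _
    exact RingHom.isLocalHom_comp _ _
  have hf₀ : Spec.map f₀ ≫ Y.fromSpecStalk y = Y'.fromSpecStalk (g'.base x') ≫ i := by
    rw [Spec.map_comp, Category.assoc, Scheme.SpecMap_stalkSpecializes_fromSpecStalk,
      Scheme.SpecMap_stalkMap_fromSpecStalk]
  haveI : IsLocalHom (μ.comp ψ) := RingHom.isLocalHom_comp _ _
  have hφ : (μ.comp ψ).comp (algebraMap (Y.presheaf.stalk y) RY) =
      (algebraMap (X'.presheaf.stalk x') RX').comp ((g'.stalkMap x').hom.comp f₀.hom) := by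
    have h : CommRingCat.ofHom (algebraMap (Y.presheaf.stalk y) RY) ≫ CommRingCat.ofHom ψ ≫ CommRingCat.ofHom μ =
        f₀ ≫ g'.stalkMap x' ≫ CommRingCat.ofHom (algebraMap (X'.presheaf.stalk x') RX') := by
      apply Spec.map_injective
      rw [← cancel_mono (Y.fromSpecStalk y), Spec.map_comp, Spec.map_comp, Spec.map_comp, Spec.map_comp]
      simp only [Category.assoc]
      rw [hf₀, Scheme.SpecMap_stalkMap_fromSpecStalk_assoc]
      refine Eq.trans (congrArg (Spec.map (CommRingCat.ofHom μ) ≫ ·) (StalkBC.specOf_comp g x RY RX ψ hψ)) ?_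
      rw [← Category.assoc, StalkBC.specOf_comp p x' RX RX' μ hμ, Category.assoc, sq.w]
      exact Category.assoc _ _ _
    exact congrArg CommRingCat.Hom.hom h
  obtain ⟨χ, hχl, hχ, hfac⟩ := L28.AcyComp.exists_strict_factor (A' := RY) (B' := RY') (C' := RX')
    f₀.hom (g'.stalkMap x').hom (algebraMap RY' RX') hc (μ.comp ψ) hφ
  let aY := Hens2.specOf Y y RY
  let aX := Hens2.specOf X x RX
  let aY' := Hens2.specOf Y' (g'.base x') RY'
  let aX' := Hens2.specOf X' x' RX'
  haveI : WeaklyEtale aY := Acyclic0.weaklyEtale_fromStrict y RY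
  haveI : WeaklyEtale aX := Acyclic0.weaklyEtale_fromStrict x RX
  haveI : WeaklyEtale aY' := Acyclic0.weaklyEtale_fromStrict _ RY'
  haveI : WeaklyEtale aX' := Acyclic0.weaklyEtale_fromStrict x' RX'
  have wχ : Spec.map (CommRingCat.ofHom χ) ≫ aY = aY' ≫ i := by
    show Spec.map _ ≫ Spec.map _ ≫ Y.fromSpecStalk y = (Spec.map _ ≫ Y'.fromSpecStalk _) ≫ i
    rw [← Spec.map_comp_assoc, ← CommRingCat.ofHom_comp, hχ, CommRingCat.ofHom_comp, Spec.map_comp, Category.assoc,
      Category.assoc, CommRingCat.ofHom_hom, hf₀]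
  haveI := hχl
  have hint := isIntegral_strict_lqf i RY RY' χ aY aY' wχ
  have sqs := isPullback_strict sq RY RX RY' RX' ψ χ hint (algebraMap RY' RX') μ hfac aY aX aY' aX'
    (StalkBC.specOf_comp g x RY RX ψ hψ).symm wχ.symm (StalkBC.specOf_comp g' x' RY' RX' _ hc).symm
    (StalkBC.specOf_comp p x' RX RX' μ hμ).symm
  letI : Algebra RY RX := ψ.toAlgebra
  haveI : IsLocalHom (algebraMap RY RX) := hψl
  exact XV.geomFibres_transfer sqs (algResidue_of_isIntegral χ hint) (H x RY RX hψ)

end Groth.L27.LocCrit
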